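import Groth.Agent.LC.GorRows
import Groth.Agent.LC.CohTorsion
import Groth.Agent.RegLoc6.Basic
import Groth.Agent.S0563

/-!
# The length of `Hom(I, R/J)` over a two-dimensional regular local ring
-/

set_option linter.style.haveILetI false
set_option linter.unusedSectionVars false
set_option backward.isDefEq.respectTransparency false
set_option backward.isDefEq.respectTransparency.types false
set_option maxHeartbeats 1000000

universe u

open CategoryTheory IsLocalRing

noncomputable section

namespace Groth.Agent.ColonLen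

variable {R : Type u} [CommRing R]

theorem exists_pow_le_annihilator [IsLocalRing R] [IsNoetherianRing R] (M : Type u) [AddCommGroup M] [Module R M]
    (hM : IsFiniteLength R M) : ∃ k : ℕ, maximalIdeal R ^ k ≤ Module.annihilator R M := by
  obtain ⟨_, _⟩ := isFiniteLength_iff_isNoetherian_isArtinian.1 hM
  obtain ⟨k, hk⟩ := IsArtinian.monotone_stabilizes
    (⟨fun i => OrderDual.toDual (maximalIdeal R ^ i • (⊤ : Submodule R M)), fun i j hij =>
      Submodule.smul_mono_left (Ideal.pow_le_pow_right hij)⟩ : ℕ →o (Submodule R M)ᵒᵈ)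
  have h1 : maximalIdeal R ^ k • (⊤ : Submodule R M) = maximalIdeal R ^ (k + 1) • (⊤ : Submodule R M) :=
    OrderDual.toDual.injective (hk (k + 1) (Nat.le_succ k))
  rw [pow_succ', Submodule.mul_smul] at h1
  have h2 := Submodule.eq_bot_of_le_smul_of_le_jacobson_bot (maximalIdeal R) _ (IsNoetherian.noetherian _) h1.le
    (IsLocalRing.maximalIdeal_le_jacobson _)
  refine ⟨k, fun a ha => Module.mem_annihilator.2 fun z => ?_⟩
  rw [← Submodule.mem_bot R, ← h2]
  exact Submodule.smul_mem_smul ha trivial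

theorem length_linearMap_free (n : ℕ) (N : Type u) [AddCommGroup N] [Module R N] :
    Module.length R ((Fin n → R) →ₗ[R] N) = (n : ℕ∞) * Module.length R N := by
  rw [← ((Pi.basisFun R (Fin n)).constr R).length_eq, Module.length_pi_of_fintype]
  simp

/-- A surjection between cokernels with the expected kernel. -/
theorem exists_quot_equiv {F X J' : Type u} [AddCommGroup F] [Module R F] [AddCommGroup X] [Module R X]
    [AddCommGroup J'] [Module R J'] (J : Ideal R) (θ : F →ₗ[R] X) (hθ : Function.Surjective θ) (w : F →ₗ[R] J')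
    (hw : Function.Surjective w) (hk : LinearMap.ker w = LinearMap.ker θ ⊔ J • ⊤) :
    Nonempty (J' ≃ₗ[R] X ⧸ (J • ⊤ : Submodule R X)) := by
  let v := (J • ⊤ : Submodule R X).mkQ ∘ₗ θ
  have hv : LinearMap.ker v = LinearMap.ker w := by
    rw [hk, LinearMap.ker_comp, Submodule.ker_mkQ, ← LinearMap.range_eq_top.2 hθ, LinearMap.range_eq_map,
      ← Submodule.map_smul'', Submodule.comap_map_eq, sup_comm]
  exact ⟨((LinearMap.quotKerEquivOfSurjective w hw).symm.trans (Submodule.quotEquivOfEq _ _ hv.symm)).trans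
    (LinearMap.quotKerEquivOfSurjective v ((Submodule.mkQ_surjective _).comp hθ))⟩

theorem length_hom_ideal_quot [IsRegularLocalRing R] (hdim : ringKrullDim R = 2) (I J : Ideal R)
    (hI : Module.length R (R ⧸ I) < ⊤) (hJ : Module.length R (R ⧸ J) < ⊤) :
    Module.length R (↥I →ₗ[R] (R ⧸ J)) + Module.length R (R ⧸ I.colon J) =
      Module.length R (R ⧸ J) + Module.length R (R ⧸ I) := by
  classical
  haveI : IsDomain R := RegLoc6.isDomain_of_isRegularLocalRing R
  haveI := LC.gorenstein_of_isRegularLocalRing (R := R)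
  have hd : ringKrullDim R = ((2 : ℕ) : WithBot ℕ∞) := hdim
  have hM : IsFiniteLength R (R ⧸ I) := Module.length_ne_top_iff.1 hI.ne
  have hne : I ≠ ⊥ := by
    intro h
    subst h
    have hR : IsFiniteLength R R :=
      Module.length_ne_top_iff.1 ((Submodule.quotEquivOfEqBot (⊥ : Ideal R) rfl).length_eq ▸ hI.ne)
    obtain ⟨_, hA⟩ := isFiniteLength_iff_isNoetherian_isArtinian.1 hR
    haveI : IsArtinianRing R := hA
    have h0 : ringKrullDim R = 0 := ringKrullDimZero_iff_ringKrullDim_eq_zero.1 inferInstance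
    rw [hdim] at h0
    exact absurd h0 (by decide)
  haveI : Module.Finite R I := Module.Finite.iff_fg.2 (IsNoetherian.noetherian I)
  obtain ⟨n, π, hπ⟩ := Module.Finite.exists_fin' R I
  let K := LinearMap.ker π
  have hKproj : Module.Projective R K := by
    have hS0 := LinearMap.shortExact_shortComplexKer (Submodule.mkQ_surjective I)
    have h1 : HasProjectiveDimensionLT (ModuleCat.of R (LinearMap.ker I.mkQ)) 2 := by
      haveI : Projective (ModuleCat.of R R) := (IsProjective.iff_projective (R := R) R).1 inferInstance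
      exact hS0.hasProjectiveDimensionLT_X₁ 2 (hasProjectiveDimensionLT_of_ge _ 1 2 (by omega))
        (Groth.Agent.S0563.result R 2 hd (R ⧸ I))
    haveI : HasProjectiveDimensionLT (ModuleCat.of R I) 2 :=
      (Submodule.ker_mkQ I).symm ▸ h1
    have hS1 := LinearMap.shortExact_shortComplexKer hπ
    haveI : Projective (ModuleCat.of R (Fin n → R)) := (IsProjective.iff_projective (R := R) (Fin n → R)).1 inferInstance
    have h2 : HasProjectiveDimensionLT (ModuleCat.of R K) 1 :=
      hS1.hasProjectiveDimensionLT_X₁ 1 (inferInstanceAs (HasProjectiveDimensionLT (ModuleCat.of R (Fin n → R)) 1))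
        (inferInstanceAs (HasProjectiveDimensionLT (ModuleCat.of R I) 2))
    exact (IsProjective.iff_projective (R := R) K).2 (projective_iff_hasProjectiveDimensionLT_one.2 h2)
  haveI : Module.Finite R K := Module.Finite.iff_fg.2 (IsNoetherian.noetherian K)
  haveI : Module.Free R K := Module.free_of_flat_of_isLocalRing
  let m := Module.finrank R K
  let b : Module.Basis (Fin m) R K := Module.finBasis R K
  have hn : n = m + 1 := by
    have h1 := Submodule.finrank_quotient_add_finrank K
    rw [Module.finrank_pi, Fintype.card_fin] at h1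
    have h2 : Module.finrank R ((Fin n → R) ⧸ K) = Module.finrank R I :=
      (LinearMap.quotKerEquivOfSurjective π hπ).finrank_eq
    have h3 : Module.finrank R I = 1 := by
      refine le_antisymm ((Submodule.finrank_le I).trans (Module.finrank_self R).le) ?_
      obtain ⟨a, ha, ha0⟩ := Submodule.exists_mem_ne_zero_of_ne_bot hne
      rw [← Module.finrank_self R]
      refine LinearMap.finrank_le_finrank_of_injective (f := LinearMap.toSpanSingleton R I ⟨a, ha⟩) fun r s hrs => ?_
      exact mul_right_cancel₀ ha0 (congrArg Subtype.val hrs)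
    omega
  let A : (Fin m → R) →ₗ[R] (Fin n → R) := K.subtype ∘ₗ b.equivFun.symm.toLinearMap
  have hA : Function.Injective A := K.subtype_injective.comp b.equivFun.symm.injective
  have hAr : LinearMap.range A = K := by
    rw [LinearMap.range_comp, LinearEquiv.range, Submodule.map_top, Submodule.range_subtype]
  have hπA : π ∘ₗ A = 0 := LinearMap.ext fun v => (b.equivFun.symm v).2
  -- the cokernel of the dual of `A` with values in a module
  let α : ((Fin n → R) →ₗ[R] R ⧸ J) →ₗ[R] ((Fin m → R) →ₗ[R] R ⧸ J) := LinearMap.lcomp R _ A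
  let αR : ((Fin n → R) →ₗ[R] R) →ₗ[R] ((Fin m → R) →ₗ[R] R) := LinearMap.lcomp R _ A
  let q : ((Fin m → R) →ₗ[R] R) →ₗ[R] ((Fin m → R) →ₗ[R] R ⧸ J) := LinearMap.llcomp R (Fin m → R) R (R ⧸ J) J.mkQ
  let q' : ((Fin n → R) →ₗ[R] R) →ₗ[R] ((Fin n → R) →ₗ[R] R ⧸ J) := LinearMap.llcomp R (Fin n → R) R (R ⧸ J) J.mkQ
  have hlift : ∀ (k : ℕ) (φ : (Fin k → R) →ₗ[R] R ⧸ J), ∃ ψ : (Fin k → R) →ₗ[R] R, J.mkQ ∘ₗ ψ = φ := fun k φ =>
    Module.projective_lifting_property J.mkQ φ J.mkQ_surjective
  have hq : Function.Surjective q := hlift m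
  have hq' : Function.Surjective q' := hlift n
  let w : ((Fin m → R) →ₗ[R] R) →ₗ[R] _ := (LinearMap.range α).mkQ ∘ₗ q
  have hkq : LinearMap.ker q = J • ⊤ := by
    refine le_antisymm (fun ψ hψ => ?_) (Submodule.smul_le.2 fun r hr ψ _ => ?_)
    · have hmem : ∀ v, ψ v ∈ J := fun v => (Submodule.Quotient.mk_eq_zero J).1 (LinearMap.congr_fun hψ v)
      have e : ψ = ∑ i, ψ (Pi.single i 1) • (LinearMap.proj i : (Fin m → R) →ₗ[R] R) := by
        refine LinearMap.pi_ext' fun i => LinearMap.ext_ring ?_
        simp [Pi.single_apply]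
      rw [e]
      exact Submodule.sum_mem _ fun i _ => Submodule.smul_mem_smul (hmem _) trivial
    · refine LinearMap.mem_ker.2 (LinearMap.ext fun v => ?_)
      exact (Submodule.Quotient.mk_eq_zero J).2 (J.mul_mem_right _ hr)
  have hkw : LinearMap.ker w = LinearMap.range αR ⊔ J • ⊤ := by
    rw [LinearMap.ker_comp, Submodule.ker_mkQ, ← hkq, ← Submodule.comap_map_eq, ← LinearMap.range_comp,
      show q ∘ₗ αR = α ∘ₗ q' from rfl, LinearMap.range_comp_of_range_eq_top _ (LinearMap.range_eq_top.2 hq')]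
  -- `X = Ext²(R/I, R)` is the cokernel of the dual of `A`
  let Mc := ModuleCat.of R R
  let S1 : ShortComplex (ModuleCat.{u} R) :=
    ShortComplex.mk (ModuleCat.ofHom A) (ModuleCat.ofHom π) (ModuleCat.hom_ext hπA)
  have hS1 : S1.ShortExact :=
    { exact := (ShortComplex.ShortExact.moduleCat_exact_iff_function_exact _).2 (LinearMap.exact_iff.2 hAr.symm)
      mono_f := (ModuleCat.mono_iff_injective _).2 hA
      epi_g := (ModuleCat.epi_iff_surjective _).2 hπ }
  let S2 : ShortComplex (ModuleCat.{u} R) :=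
    ShortComplex.mk (ModuleCat.ofHom I.subtype) (ModuleCat.ofHom I.mkQ)
      (ModuleCat.hom_ext (LinearMap.ext fun v => (Submodule.Quotient.mk_eq_zero I).2 v.2))
  have hS2 : S2.ShortExact :=
    { exact := (ShortComplex.ShortExact.moduleCat_exact_iff_function_exact _).2 (LinearMap.exact_subtype_mkQ I)
      mono_f := (ModuleCat.mono_iff_injective _).2 I.subtype_injective
      epi_g := (ModuleCat.epi_iff_surjective _).2 I.mkQ_surjective }
  haveI : Projective S1.X₂ := (IsProjective.iff_projective (R := R) (Fin n → R)).1 inferInstance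
  haveI : Projective S2.X₂ := (IsProjective.iff_projective (R := R) R).1 inferInstance
  let X := Abelian.Ext (ModuleCat.of R (R ⧸ I)) Mc 2
  let δ1 : Abelian.Ext S1.X₁ Mc 0 →ₗ[R] Abelian.Ext S1.X₃ Mc 1 :=
    Abelian.Ext.precompOfLinear hS1.extClass R Mc (add_comm 1 0)
  let δ2 : Abelian.Ext S2.X₁ Mc 1 →ₗ[R] X := Abelian.Ext.precompOfLinear hS2.extClass R Mc (add_comm 1 1)
  let e0 : ((Fin m → R) →ₗ[R] R) ≃ₗ[R] Abelian.Ext S1.X₁ Mc 0 :=
    (Abelian.Ext.linearEquiv₀.trans ModuleCat.homLinearEquiv : Abelian.Ext S1.X₁ Mc 0 ≃ₗ[R] _).symm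
  let θ : ((Fin m → R) →ₗ[R] R) →ₗ[R] X := δ2 ∘ₗ δ1 ∘ₗ e0.toLinearMap
  have hδ1 : Function.Surjective δ1 := fun z =>
    Abelian.Ext.contravariant_sequence_exact₃ hS1 Mc z (Abelian.Ext.eq_zero_of_projective _) (add_comm 1 0)
  have hδ2 : Function.Surjective δ2 := fun z =>
    Abelian.Ext.contravariant_sequence_exact₃ hS2 Mc z (Abelian.Ext.eq_zero_of_projective _) (add_comm 1 1)
  have hδ2i : Function.Injective δ2 := (injective_iff_map_eq_zero _).2 fun z hz => by
    obtain ⟨y, hy⟩ := Abelian.Ext.contravariant_sequence_exact₁ hS2 Mc z (add_comm 1 1) hz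
    rw [← hy, Abelian.Ext.eq_zero_of_projective y, Abelian.Ext.comp_zero]
  have hθ : Function.Surjective θ := hδ2.comp (hδ1.comp e0.surjective)
  have hkθ : LinearMap.ker θ = LinearMap.range αR := by
    have e00 : ∀ ψ : (Fin m → R) →ₗ[R] R, e0 ψ = Abelian.Ext.mk₀ (ModuleCat.ofHom ψ) := fun ψ => rfl
    ext ψ
    rw [LinearMap.mem_ker]
    constructor
    · intro hψ
      have h1 : δ1 (e0 ψ) = 0 := hδ2i (hψ.trans (map_zero δ2).symm)
      obtain ⟨x₂, hx₂⟩ := Abelian.Ext.contravariant_sequence_exact₁ hS1 Mc (e0 ψ) (add_comm 1 0) h1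
      obtain ⟨g, rfl⟩ := (Abelian.Ext.mk₀_bijective S1.X₂ Mc).2 x₂
      rw [Abelian.Ext.mk₀_comp_mk₀, e00] at hx₂
      exact ⟨g.hom, congrArg ModuleCat.Hom.hom ((Abelian.Ext.mk₀_bijective _ _).1 hx₂)⟩
    · rintro ⟨φ, rfl⟩
      show δ2 (hS1.extClass.comp (e0 (φ ∘ₗ A)) (add_comm 1 0)) = 0
      rw [e00, show ModuleCat.ofHom (φ ∘ₗ A) = S1.f ≫ ModuleCat.ofHom φ from rfl, ← Abelian.Ext.mk₀_comp_mk₀,
        hS1.extClass_comp_assoc, map_zero]
  obtain ⟨c⟩ := exists_quot_equiv J θ hθ w ((Submodule.mkQ_surjective _).comp hq) (hkθ ▸ hkw)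
  -- duality
  obtain ⟨E, _, _, f, hf⟩ := LC.exists_injectiveHull R (ResidueField R)
  obtain ⟨ld⟩ := LC.exists_localDuality_gorenstein 2 hd E hf (R ⧸ I) 2 0 rfl
  obtain ⟨k, hk⟩ := exists_pow_le_annihilator (R ⧸ I) hM
  have htop : DRing.torsionSub (maximalIdeal R) (ModuleCat.of R (R ⧸ I)) = ⊤ :=
    LC.torsionSub_eq_top (maximalIdeal R) fun z => ⟨k, fun a ha => Module.mem_annihilator.1 (hk ha) z⟩
  let g : (R ⧸ I) ≃ₗ[R] (X →ₗ[R] E) :=
    ((Submodule.topEquiv.symm.trans (LinearEquiv.ofEq _ _ htop.symm)).trans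
      (LC.H0Equiv (maximalIdeal R) (ModuleCat.of R (R ⧸ I))).symm).trans ld
  have hX : IsFiniteLength R X := by
    have h1 : IsFiniteLength R (X →ₗ[R] E) := Module.length_ne_top_iff.1 (g.length_eq ▸ hI.ne)
    have h2 : Module.length R ((X →ₗ[R] E) →ₗ[R] E) ≠ ⊤ := by
      rw [LC.length_dual hf _ h1, ← g.length_eq]
      exact hI.ne
    exact Module.length_ne_top_iff.1 (ne_top_of_le_ne_top h2
      (Module.length_le_of_injective _ (LC.applyₗ_injective hf X)))
  let JX : Submodule R X := J • ⊤
  have hXJ : IsFiniteLength R (X ⧸ JX) := Module.length_ne_top_iff.1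
    (ne_top_of_le_ne_top (Module.length_ne_top_iff.2 hX) (Module.length_le_of_surjective _ JX.mkQ_surjective))
  let T : Submodule R (R ⧸ I) := Submodule.map I.mkQ (I.colon (J : Set R))
  have hT : Module.length R (X ⧸ JX) = Module.length R T := by
    rw [← LC.length_dual hf _ hXJ]
    let h : ((X ⧸ JX) →ₗ[R] E) →ₗ[R] (R ⧸ I) := g.symm.toLinearMap ∘ₗ LinearMap.lcomp R E JX.mkQ
    have hh : Function.Injective h := g.symm.injective.comp fun a b hab =>
      LinearMap.ext fun y => by
        obtain ⟨y, rfl⟩ := JX.mkQ_surjective y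
        exact LinearMap.congr_fun hab y
    have hr : LinearMap.range h = T := by
      ext z
      obtain ⟨r, rfl⟩ := I.mkQ_surjective z
      constructor
      · rintro ⟨φ, hφ⟩
        refine ⟨r, Submodule.mem_colon.2 fun j hj => ?_, rfl⟩
        have h0 : j • I.mkQ r = 0 := by
          rw [← hφ]
          show j • g.symm _ = 0
          rw [← map_smul, show j • LinearMap.lcomp R E JX.mkQ φ = 0 from LinearMap.ext fun y => by
            show j • φ (JX.mkQ y) = 0
            rw [← map_smul, ← map_smul, show JX.mkQ (j • y) = 0 from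
              (Submodule.Quotient.mk_eq_zero JX).2 (Submodule.smul_mem_smul hj trivial), map_zero], map_zero]
        rw [← map_smul] at h0
        have := (Submodule.Quotient.mk_eq_zero I).1 h0
        rwa [smul_eq_mul, mul_comm] at this
      · rintro ⟨r', hr', hrr⟩
        have h0 : ∀ j ∈ J, j • g (I.mkQ r) = 0 := fun j hj => by
          rw [← hrr, ← map_smul, ← map_smul, show I.mkQ (j • r') = 0 from (Submodule.Quotient.mk_eq_zero I).2 (by
            rw [smul_eq_mul, mul_comm]
            exact Submodule.mem_colon.1 hr' j hj), map_zero]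
        have hle : JX ≤ LinearMap.ker (g (I.mkQ r)) := Submodule.smul_le.2 fun j hj y _ => by
          rw [LinearMap.mem_ker, map_smul]
          exact LinearMap.congr_fun (h0 j hj) y
        refine ⟨JX.liftQ _ hle, ?_⟩
        show g.symm _ = I.mkQ r
        rw [LinearEquiv.symm_apply_eq]
        exact Submodule.liftQ_mkQ _ _ hle
    rw [← hr, (LinearEquiv.ofInjective h hh).length_eq]
  have hTsum : Module.length R (R ⧸ I) = Module.length R T + Module.length R (R ⧸ I.colon J) := by
    have hI' : I ≤ I.colon (J : Set R) := fun r hr => Submodule.mem_colon.2 fun j _ => I.mul_mem_right j hr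
    rw [Module.length_eq_add_of_exact T.subtype T.mkQ T.subtype_injective T.mkQ_surjective
      (LinearMap.exact_subtype_mkQ T)]
    congr 1
    exact (Submodule.quotientQuotientEquivQuotient I _ hI').length_eq
  -- counting
  have hker : Module.length R (↥I →ₗ[R] R ⧸ J) = Module.length R (LinearMap.ker α) := by
    let p : (↥I →ₗ[R] R ⧸ J) →ₗ[R] ((Fin n → R) →ₗ[R] R ⧸ J) := LinearMap.lcomp R _ π
    have hp : Function.Injective p := fun a b hab => LinearMap.ext fun y => by
      obtain ⟨y, rfl⟩ := hπ y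
      exact LinearMap.congr_fun hab y
    have hr : LinearMap.range p = LinearMap.ker α := by
      ext φ
      constructor
      · rintro ⟨ψ, rfl⟩
        show (ψ ∘ₗ π) ∘ₗ A = 0
        rw [LinearMap.comp_assoc, hπA, LinearMap.comp_zero]
      · intro hφ
        have hle : K ≤ LinearMap.ker φ := by
          rw [← hAr, LinearMap.range_le_ker_iff]
          exact hφ
        refine ⟨K.liftQ φ hle ∘ₗ (LinearMap.quotKerEquivOfSurjective π hπ).symm.toLinearMap, LinearMap.ext fun v => ?_⟩
        show K.liftQ φ hle ((LinearMap.quotKerEquivOfSurjective π hπ).symm (π v)) = φ v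
        rw [show (LinearMap.quotKerEquivOfSurjective π hπ).symm (π v) = K.mkQ v from
          (LinearEquiv.symm_apply_eq _).2 rfl]
        rfl
    rw [← hr]
    exact (LinearEquiv.ofInjective p hp).length_eq
  have hsrc : Module.length R ((Fin n → R) →ₗ[R] R ⧸ J) =
      Module.length R (LinearMap.ker α) + Module.length R (LinearMap.range α) :=
    Module.length_eq_add_of_exact (LinearMap.ker α).subtype α.rangeRestrict (Submodule.subtype_injective _)
      α.surjective_rangeRestrict (LinearMap.exact_iff.2 (by rw [LinearMap.ker_rangeRestrict, Submodule.range_subtype]))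
  have htgt : Module.length R ((Fin m → R) →ₗ[R] R ⧸ J) =
      Module.length R (LinearMap.range α) + Module.length R T := by
    have hex := LinearMap.exact_subtype_mkQ (LinearMap.range α)
    rw [Module.length_eq_add_of_exact _ _ (Submodule.subtype_injective _) (Submodule.mkQ_surjective _) hex,
      c.length_eq, hT]
  rw [length_linearMap_free] at hsrc htgt
  rw [hker, hTsum]
  have hfin : ∀ x : ℕ∞, x ≠ ⊤ → ∃ a : ℕ, x = a := fun x hx => (ENat.ne_top_iff_exists.1 hx).imp fun _ => Eq.symm
  obtain ⟨l, hl⟩ := hfin _ hJ.ne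
  rw [hl] at hsrc htgt ⊢
  obtain ⟨r, hr⟩ := hfin (Module.length R (LinearMap.range α)) (fun h => by
    rw [h, top_add, ← Nat.cast_mul] at htgt
    exact ENat.natCast_ne_top _ htgt)
  obtain ⟨a, ha⟩ := hfin (Module.length R (LinearMap.ker α)) (fun h => by
    rw [h, top_add, ← Nat.cast_mul] at hsrc
    exact ENat.natCast_ne_top _ hsrc)
  obtain ⟨t, ht⟩ := hfin (Module.length R T) (fun h => by
    rw [h, add_top, ← Nat.cast_mul] at htgt
    exact ENat.natCast_ne_top _ htgt)
  rw [ha, hr] at hsrc
  rw [hr, ht] at htgt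
  have h1 : n * l = a + r := by exact_mod_cast hsrc
  have h2 : m * l = r + t := by exact_mod_cast htgt
  rw [hn, add_mul, one_mul] at h1
  have h3 : a = l + t := by omega
  rw [ha, ht, h3, Nat.cast_add, add_assoc]

end Groth.Agent.ColonLen
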